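import Groth.Agent.AlgGrpLib.PicActionDiff
import Groth.Agent.SGA3xLib.SepFibre
import Groth.Agent.SGA3cLib.GeomConn
import Groth.Agent.FlatMorLocalStr.SmoothFibres

/-!
# Invertible modules on a product of groups trivial on the axes, algebraically closed field
-/

set_option autoImplicit false
set_option linter.all false
set_option backward.isDefEq.respectTransparency.types false

universe u

open CategoryTheory CategoryTheory.Limits MonoidalCategory CartesianMonoidalCategory MonObj GrpObj AlgebraicGeometry
open Groth.Agent.PicLib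

namespace Groth.Agent.Et18.PicAxes

variable {k : Type u} [Field k]

theorem geometricallyConnected_of_group (G : Over (Spec (CommRingCat.of k))) [GrpObj G] [ConnectedSpace ↥G.left] :
    GeometricallyConnected G.hom := by
  have h := SGA3cLib.geometricallyConnected_of_rational_point k G.hom (𝟙 G.left) η[G].left (Over.w η[G]) (by simp)
  rwa [Category.id_comp] at h

/-- Translation of a product on the first factor. -/
noncomputable def transAction (P Q : Over (Spec (CommRingCat.of k))) [GrpObj P] : AlgGrp.Action P (P ⊗ Q) where
  act := (α_ P P Q).inv ≫ (μ[P] ▷ Q)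
  one_act := by
    rw [associator_inv_naturality_left_assoc, ← comp_whiskerRight, MonObj.one_mul]
    simp
  mul_act := by
    rw [MonoidalCategory.whiskerLeft_comp, ← Category.assoc, associator_inv_naturality_left,
      Category.assoc, ← comp_whiskerRight, MonObj.mul_assoc]
    simp only [comp_whiskerRight, Category.assoc]
    rw [associator_inv_naturality_middle_assoc]
    simp

theorem eq_one_of_axes [IsAlgClosed k] (P Q : Over (Spec (CommRingCat.of k))) [GrpObj P] [GrpObj Q]
    [IsAffine P.left] [Smooth P.hom] [ConnectedSpace ↥P.left]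
    [Smooth Q.hom] [QuasiCompact Q.hom] [ConnectedSpace ↥Q.left] (c : PicM (P ⊗ Q).left)
    (hP : PicM.pull (lift (𝟙 P) (toUnit P ≫ η[Q])).left c = 1)
    (hQ : PicM.pull (lift (toUnit Q ≫ η[P]) (𝟙 Q)).left c = 1) : c = 1 := by
  classical
  haveI : IsSeparated Q.hom := SGA3xLib.isSeparated_of_grpObj Q
  haveI : QuasiCompact P.hom := inferInstance
  haveI : IsSeparated P.hom := inferInstance
  haveI : GeometricallyConnected P.hom := geometricallyConnected_of_group P
  haveI : GeometricallyConnected Q.hom := geometricallyConnected_of_group Q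
  let X := P ⊗ Q
  haveI : Smooth X.hom := by
    show Smooth (pullback.fst P.hom Q.hom ≫ P.hom)
    infer_instance
  haveI : QuasiCompact X.hom := by
    show QuasiCompact (pullback.fst P.hom Q.hom ≫ P.hom)
    infer_instance
  haveI : IsSeparated X.hom := by
    show IsSeparated (pullback.fst P.hom Q.hom ≫ P.hom)
    infer_instance
  haveI : ConnectedSpace ↥X.left := by
    show ConnectedSpace ↥(pullback P.hom Q.hom)
    exact GeometricallyConnected.connectedSpace (pullback.fst P.hom Q.hom) (pullback.fst P.hom Q.hom).isOpenMap
  haveI : IsLocallyNoetherian X.left := LocallyOfFiniteType.isLocallyNoetherian X.hom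
  haveI : IrreducibleSpace ↥X.left := SGA3cLib.irreducibleSpace_of_connected X
  haveI : IsReduced X.left := WeilLib.isReduced_of_smooth X.hom
  haveI : IsIntegral X.left := isIntegral_of_irreducibleSpace_of_isReduced _
  have hN : Pi1.IsNormalScheme X.left := FlatMorLocalStr.isNormalScheme_of_smooth_field X.hom
  have h := AlgGrpLib.PicActionDiff.act_pull_eq P X hN (transAction P Q) (lift η[P] η[Q]) c
  let jj : X ⟶ P ⊗ X := lift (fst P Q) (lift (toUnit X ≫ η[P]) (snd P Q))
  have h1 : jj ≫ (transAction P Q).act = 𝟙 X := by
    show jj ≫ (α_ P P Q).inv ≫ (μ[P] ▷ Q) = _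
    apply CartesianMonoidalCategory.hom_ext
    · simp only [jj, Category.assoc, whiskerRight_fst, lift_lift_associator_inv_assoc, lift_fst_assoc, Category.id_comp]
      rw [MonObj.lift_comp_one_right]
    · simp [jj, X]
  have h2 : (transAction P Q).orbitMap (lift η[P] η[Q]) = lift (𝟙 P) (toUnit P ≫ η[Q]) := by
    show lift (𝟙 P) (toUnit P ≫ lift η[P] η[Q]) ≫ (α_ P P Q).inv ≫ (μ[P] ▷ Q) = _
    apply CartesianMonoidalCategory.hom_ext
    · simp only [Category.assoc, whiskerRight_fst, comp_lift, lift_lift_associator_inv_assoc, lift_fst_assoc, lift_fst]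
      rw [MonObj.lift_comp_one_right]
    · simp
  have h3 : jj ≫ snd P X = snd P Q ≫ lift (toUnit Q ≫ η[P]) (𝟙 Q) := by
    simp only [jj, lift_snd, comp_lift, ← Category.assoc, toUnit_unique (snd P Q ≫ toUnit Q) (toUnit X), Category.comp_id]
  have h4 := congrArg (PicM.pull jj.left) h
  rw [PicM.pull_pull, ← Over.comp_left, h1, Over.id_left, PicM.pull_id, h2, hP, map_one, _root_.one_mul,
    PicM.pull_pull, ← Over.comp_left, h3, Over.comp_left, ← PicM.pull_pull, hQ, map_one] at h4
  exact h4

end Groth.Agent.Et18.PicAxes
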