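import Groth.Agent.PicLib.FlatTriv
import Groth.Agent.PicLib.PicGroup
import Groth.Agent.Coherent.FlatBaseChangeMain
import Mathlib.FieldTheory.Galois.Infinite
import Mathlib.RingTheory.TensorProduct.Free

/-!
# Trivialisation data of an invertible module along a morphism
-/

set_option autoImplicit false
set_option linter.all false
set_option backward.isDefEq.respectTransparency.types false
set_option backward.isDefEq.respectTransparency false

universe u

open CategoryTheory CategoryTheory.Limits AlgebraicGeometry Opposite TopologicalSpace TensorProduct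
open Groth.Agent.Coherent Groth.Agent.PicLib Groth.Agent.AmpleLib

namespace Groth.Agent.Et18.PicAxes

/-- A cover by affine opens with generators. -/
structure Chart {X : Scheme.{u}} (L : X.Modules) where
  U : X → X.Opens
  mem : ∀ x, x ∈ U x
  aff : ∀ x, IsAffineOpen (U x)
  e : ∀ x, Γ(L, U x)
  gen : ∀ x, IsGen L (U x) (e x)

variable {X : Scheme.{u}} {L : X.Modules}

theorem nonempty_chart (hL : PicF.IsInvertible L) : Nonempty (Chart L) := by
  choose W hW s hs using fun x => exists_isGen hL x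
  choose U hU hxU hle using fun x => exists_isAffineOpen_mem_and_subset (x := x) (U := W x) (hW x)
  exact ⟨⟨U, hxU, hU, fun x => resM L (hle x) (s x), fun x => (hs x).restrict (hle x)⟩⟩

variable (C : Chart L)

/-- The transition function. -/
noncomputable def Chart.r (x y : X) : Γ(X, C.U x ⊓ C.U y) :=
  (C.gen y).coef inf_le_right (resM L inf_le_left (C.e x))

theorem Chart.r_spec (x y : X) :
    C.r x y • resM L (inf_le_right : C.U x ⊓ C.U y ≤ C.U y) (C.e y) =
      resM L (inf_le_left : C.U x ⊓ C.U y ≤ C.U x) (C.e x) :=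
  (C.gen y).coef_spec _ _

/-- A trivialisation datum of `L` along `h`. -/
structure Datum {T : Scheme.{u}} (h : T ⟶ X) where
  b : ∀ x, Γ(T, h ⁻¹ᵁ C.U x)
  unit : ∀ x, IsUnit (b x)
  compat : ∀ x y, res ((Opens.map h.base).map (homOfLE (inf_le_left : C.U x ⊓ C.U y ≤ C.U x))).le (b x) =
    h.app _ (C.r x y) * res ((Opens.map h.base).map (homOfLE (inf_le_right : C.U x ⊓ C.U y ≤ C.U y))).le (b y)

variable {C} {T T' T'' : Scheme.{u}} {h : T ⟶ X}

theorem Datum.ext' {d d' : Datum C h} (e : ∀ x, d.b x = d'.b x) : d = d' := by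
  cases d; cases d'; congr; exact funext e

theorem preimage_eq {m : T' ⟶ T} {h' : T' ⟶ X} (hh : m ≫ h = h') (V : X.Opens) : h' ⁻¹ᵁ V ≤ m ⁻¹ᵁ (h ⁻¹ᵁ V) := by
  subst hh; exact le_rfl

/-- Pullback of data. -/
noncomputable def Datum.pull (d : Datum C h) (m : T' ⟶ T) {h' : T' ⟶ X} (hh : m ≫ h = h') : Datum C h' where
  b x := m.appLE (h ⁻¹ᵁ C.U x) (h' ⁻¹ᵁ C.U x) (preimage_eq hh _) (d.b x)
  unit x := (d.unit x).map _
  compat x y := by
    subst hh
    have h1 := congrArg (m.app (h ⁻¹ᵁ (C.U x ⊓ C.U y))) (d.compat x y)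
    rw [map_mul] at h1
    have hn : ∀ {V W : T.Opens} (hle : W ≤ V) (t : Γ(T, V)),
        m.app W (res hle t) = res ((Opens.map m.base).map (homOfLE hle)).le (m.app V t) := fun hle t =>
      ConcreteCategory.congr_hom (m.naturality (homOfLE hle).op) t
    rw [hn, hn] at h1
    simp only [Scheme.Hom.appLE]
    convert h1 using 1 <;> simp

theorem Datum.pull_pull (d : Datum C h) (m : T' ⟶ T) {h' : T' ⟶ X} (hh : m ≫ h = h') (n : T'' ⟶ T')
    {h'' : T'' ⟶ X} (hh' : n ≫ h' = h'') :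
    (d.pull m hh).pull n hh' = d.pull (n ≫ m) (by rw [Category.assoc, hh, hh']) := by
  refine Datum.ext' fun x => ?_
  show n.appLE _ _ _ (m.appLE _ _ _ (d.b x)) = _
  rw [← CommRingCat.comp_apply, Scheme.Hom.appLE_comp_appLE]
  rfl

theorem Datum.pull_congr (d : Datum C h) {m m' : T' ⟶ T} (e : m = m') {h' : T' ⟶ X} (hh : m ≫ h = h')
    (hh' : m' ≫ h = h') : d.pull m hh = d.pull m' hh' := by
  subst e; rfl

/-- Multiplication by a global unit. -/
noncomputable def Datum.smul (d : Datum C h) (u : Γ(T, ⊤)) (hu : IsUnit u) : Datum C h where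
  b x := res (le_top : h ⁻¹ᵁ C.U x ≤ ⊤) u * d.b x
  unit x := (hu.map _).mul (d.unit x)
  compat x y := by
    rw [map_mul, map_mul, PicLib.res_res, PicLib.res_res, d.compat x y]
    ring

theorem Datum.smul_pull (d : Datum C h) (u : Γ(T, ⊤)) (hu : IsUnit u) (m : T' ⟶ T) {h' : T' ⟶ X} (hh : m ≫ h = h') :
    (d.smul u hu).pull m hh = (d.pull m hh).smul (m.appTop u) (hu.map _) := by
  refine Datum.ext' fun x => ?_
  show m.appLE _ _ _ (res le_top u * d.b x) = res le_top (m.appTop u) * m.appLE _ _ _ (d.b x)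
  rw [map_mul]
  congr 1
  show (T.presheaf.map _ ≫ m.appLE _ _ _) u = (m.app ⊤ ≫ T'.presheaf.map _) u
  rw [Scheme.Hom.map_appLE]
  rfl

theorem Datum.smul_smul (d : Datum C h) (u v : Γ(T, ⊤)) (hu : IsUnit u) (hv : IsUnit v) :
    (d.smul u hu).smul v hv = d.smul (v * u) (hv.mul hu) := by
  refine Datum.ext' fun x => ?_
  show res le_top v * (res le_top u * d.b x) = res le_top (v * u) * d.b x
  rw [map_mul, mul_assoc]

theorem Datum.smul_one (d : Datum C h) : d.smul 1 isUnit_one = d :=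
  Datum.ext' fun x => by show res le_top 1 * d.b x = d.b x; rw [map_one, one_mul]

theorem cover_preimage (h : T ⟶ X) : (⊤ : T.Opens) ≤ ⨆ x, h ⁻¹ᵁ C.U x := fun t _ =>
  Opens.mem_iSup.2 ⟨h t, C.mem (h t)⟩

theorem Datum.smul_cancel (d : Datum C h) {u v : Γ(T, ⊤)} (hu : IsUnit u) (hv : IsUnit v)
    (e : d.smul u hu = d.smul v hv) : u = v := by
  refine TopCat.Sheaf.eq_of_locally_eq' T.sheaf (fun x => h ⁻¹ᵁ C.U x) ⊤ (fun x => homOfLE le_top)
    (cover_preimage h) u v fun x => ?_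
  have h1 : res (le_top : h ⁻¹ᵁ C.U x ≤ ⊤) u * d.b x = res le_top v * d.b x := congrArg (fun d : Datum C h => d.b x) e
  exact (d.unit x).mul_left_inj.1 h1

theorem Datum.exists_smul (d d' : Datum C h) : ∃ (u : Γ(T, ⊤)) (hu : IsUnit u), d' = d.smul u hu := by
  let v : ∀ x, Γ(T, h ⁻¹ᵁ C.U x) := fun x => d'.b x * ↑((d.unit x).unit⁻¹)
  have hv : ∀ x, v x * d.b x = d'.b x := fun x => by
    rw [mul_assoc, IsUnit.val_inv_mul, mul_one]
  obtain ⟨u, hu, -⟩ := TopCat.Sheaf.existsUnique_gluing' T.sheaf (fun x => h ⁻¹ᵁ C.U x) ⊤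
    (fun x => homOfLE le_top) (cover_preimage h) v (fun x y => by
      refine (((d.unit x).map (res (inf_le_left : h ⁻¹ᵁ C.U x ⊓ h ⁻¹ᵁ C.U y ≤ _))).mul_left_inj).1 ?_
      show res _ (v x) * res _ (d.b x) = res _ (v y) * res _ (d.b x)
      let R : Γ(T, h ⁻¹ᵁ C.U x ⊓ h ⁻¹ᵁ C.U y) := h.app _ (C.r x y)
      have c1 : res (inf_le_left : h ⁻¹ᵁ C.U x ⊓ h ⁻¹ᵁ C.U y ≤ _) (d.b x) = R * res inf_le_right (d.b y) := d.compat x y
      have c2 : res (inf_le_left : h ⁻¹ᵁ C.U x ⊓ h ⁻¹ᵁ C.U y ≤ _) (d'.b x) = R * res inf_le_right (d'.b y) := d'.compat x y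
      rw [← map_mul, hv x, c1, c2, ← hv y, map_mul]
      ring)
  have hu' : IsUnit u := by
    refine RingedSpace.isUnit_of_isUnit_germ T.toRingedSpace ⊤ u fun t ht => ?_
    obtain ⟨x, hx⟩ := Opens.mem_iSup.1 (cover_preimage (C := C) h ht)
    have h2 : IsUnit (v x) := (d'.unit x).mul (Units.isUnit _)
    have h3 := h2.map (T.presheaf.germ _ t hx).hom
    rw [← hu x] at h3
    exact (congrArg IsUnit (T.presheaf.germ_res_apply (homOfLE le_top) t hx u)).mp h3
  exact ⟨u, hu', Datum.ext' fun x => (hv x).symm.trans (congrArg (· * d.b x) (hu x).symm)⟩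

/-- Data exist along `h` when the pullback of `L` is trivial. -/
theorem exists_datum (C : Chart L) (hL : PicF.IsInvertible L) (h : T ⟶ X) (ht : PicM.pull h (PicM.of hL) = 1) :
    Nonempty (Datum C h) := by
  rw [PicM.pull_of, PicM.of_eq_one_iff] at ht
  obtain ⟨i⟩ := ht
  let L' := (Scheme.Modules.pullback h).obj L
  obtain ⟨t, hgen⟩ : ∃ t : Γ(L', ⊤), IsGen L' ⊤ t := ⟨_, isGen_app_iso i.symm (isGen_oneSec (⊤ : T.Opens))⟩
  have hg : ∀ x, IsGen L' (h ⁻¹ᵁ C.U x) (pullSec h (C.e x)) := fun x => isGen_pullSec h (C.gen x) hL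
  let b : ∀ x, Γ(T, h ⁻¹ᵁ C.U x) := fun x => hgen.coef le_top (pullSec h (C.e x))
  refine ⟨⟨b, fun x => ?_, fun x y => ?_⟩⟩
  · have h1 := (hgen.restrict (le_top : h ⁻¹ᵁ C.U x ≤ ⊤)).isUnit_coef (hg x)
    rwa [show (hgen.restrict (le_top : h ⁻¹ᵁ C.U x ≤ ⊤)).coef le_rfl (pullSec h (C.e x)) = b x from
      (hgen.restrict _).coef_eq _ (by rw [resM_resM]; exact hgen.coef_spec le_top _)] at h1
  · rw [← hgen.coef_res le_top, ← hgen.coef_res le_top, ← hgen.coef_smul, resM_pullSec h inf_le_left,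
      resM_pullSec h inf_le_right, ← pullSec_smul, C.r_spec]

/-- A datum along the identity trivialises `L`. -/
theorem eq_one_of_datum (hL : PicF.IsInvertible L) (d : Datum C (𝟙 X)) : PicM.of hL = 1 := by
  let v : ∀ x, (Γ(X, C.U x))ˣ := fun x => (d.unit x).unit
  let w : ∀ x, Γ(L, C.U x) := fun x => (↑(v x)⁻¹ : Γ(X, C.U x)) • C.e x
  obtain ⟨s, hs, -⟩ := TopCat.Sheaf.existsUnique_gluing' (⟨L.presheaf, L.isSheaf⟩ : TopCat.Sheaf Ab X)
    C.U ⊤ (fun x => homOfLE le_top) (fun p _ => Opens.mem_iSup.2 ⟨p, C.mem p⟩) w (fun x y => by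
      show resM L inf_le_left (w x) = resM L inf_le_right (w y)
      simp only [w]
      rw [resM_smul, resM_smul, ← C.r_spec, smul_smul]
      congr 1
      let bx : Γ(X, C.U x) := d.b x
      let by' : Γ(X, C.U y) := d.b y
      have hx1 : (↑(v x)⁻¹ : Γ(X, C.U x)) * bx = 1 := (d.unit x).val_inv_mul
      have hy1 : by' * (↑(v y)⁻¹ : Γ(X, C.U y)) = 1 := (d.unit y).mul_val_inv
      have hc : res (inf_le_left : C.U x ⊓ C.U y ≤ C.U x) bx = C.r x y * res inf_le_right by' := d.compat x y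
      calc res inf_le_left (↑(v x)⁻¹ : Γ(X, C.U x)) * C.r x y
          = res inf_le_left (↑(v x)⁻¹ : Γ(X, C.U x)) * C.r x y *
              (res inf_le_right by' * res inf_le_right (↑(v y)⁻¹ : Γ(X, C.U y))) := by
            rw [← map_mul, hy1, map_one, mul_one]
        _ = (res inf_le_left (↑(v x)⁻¹ : Γ(X, C.U x)) * res inf_le_left bx) * res inf_le_right (↑(v y)⁻¹ : Γ(X, C.U y)) := by
            rw [hc]; ring
        _ = _ := by rw [← map_mul, hx1, map_one, one_mul])
  rw [PicM.of_eq_one_iff]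
  have hgen : IsGen L ⊤ s := isGen_of_cover C.U (fun x => le_top) (fun p _ => Opens.mem_iSup.2 ⟨p, C.mem p⟩) fun x => by
    rw [show resM L (le_top : C.U x ≤ ⊤) s = w x from hs x]
    exact (C.gen x).smul_unit (v x)⁻¹
  have : IsIso (unitDesc L s) := isIso_of_isGen _ (by rw [unitVal_unitDesc, resM_self]; exact hgen)
  exact ⟨(asIso (unitDesc L s)).symm⟩

/-- Fixed vectors of the Galois group in a scalar extension. -/
theorem mem_range_of_fixed {k K M : Type u} [Field k] [Field K] [Algebra k K] [IsGalois k K] [CommRing M] [Algebra k M]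
    (t : K ⊗[k] M) (h : ∀ σ : K ≃ₐ[k] K, Algebra.TensorProduct.map σ.toAlgHom (AlgHom.id k M) t = t) :
    ∃ m : M, t = 1 ⊗ₜ m := by
  classical
  let b := Module.Free.chooseBasis k M
  let bK := Algebra.TensorProduct.basis K b
  have hrepr : ∀ (σ : K ≃ₐ[k] K) (z : K ⊗[k] M) i,
      bK.repr (Algebra.TensorProduct.map σ.toAlgHom (AlgHom.id k M) z) i = σ (bK.repr z i) := by
    intro σ z i
    induction z using TensorProduct.induction_on with
    | zero => simp
    | add a c ha hc => rw [map_add, map_add, map_add, Finsupp.add_apply, Finsupp.add_apply, ha, hc, map_add]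
    | tmul a m => simp [bK, Algebra.TensorProduct.basis_repr_tmul]
  have hfix : ∀ i, bK.repr t i ∈ Set.range (algebraMap k K) := fun i =>
    (InfiniteGalois.mem_range_algebraMap_iff_fixed _).2 fun σ => by rw [← hrepr, h]
  choose c hc using hfix
  refine ⟨∑ i ∈ (bK.repr t).support, c i • b i, ?_⟩
  conv_lhs => rw [← bK.linearCombination_repr t]
  rw [Finsupp.linearCombination_apply, Finsupp.sum, TensorProduct.tmul_sum]
  refine Finset.sum_congr rfl fun i _ => ?_
  rw [Algebra.TensorProduct.basis_apply, TensorProduct.tmul_smul, ← hc i, algebraMap_smul]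

end Groth.Agent.Et18.PicAxes
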