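import Groth.Agent.Et18.PicAxes.Datum

/-!
# Galois descent of trivialisation data
-/

set_option autoImplicit false
set_option linter.all false
set_option backward.isDefEq.respectTransparency.types false
set_option backward.isDefEq.respectTransparency false

universe u

open CategoryTheory CategoryTheory.Limits AlgebraicGeometry Opposite TopologicalSpace TensorProduct
open Groth.Agent.Coherent Groth.Agent.PicLib Groth.Agent.AmpleLib

namespace Groth.Agent.Et18.PicAxes

theorem exists_ringEquiv_of_pushout {R A B C : Type u} [CommRing R] [CommRing A] [CommRing B] [CommRing C]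
    [Algebra R A] [Algebra R B] {c : CommRingCat.of A ⟶ CommRingCat.of C} {d : CommRingCat.of B ⟶ CommRingCat.of C}
    (h : IsPushout (CommRingCat.ofHom (algebraMap R A)) (CommRingCat.ofHom (algebraMap R B)) c d) :
    ∃ Φ : A ⊗[R] B ≃+* C, ∀ x y, Φ (x ⊗ₜ y) = c x * d y := by
  let e := (CommRingCat.isPushout_tensorProduct R A B).isoIsPushout _ _ h
  refine ⟨e.commRingCatIsoToRingEquiv, fun x y => ?_⟩
  have h1 := IsPushout.inl_isoIsPushout_hom _ _ (CommRingCat.isPushout_tensorProduct R A B) h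
  have h2 := IsPushout.inr_isoIsPushout_hom _ _ (CommRingCat.isPushout_tensorProduct R A B) h
  rw [show x ⊗ₜ[R] y = (x ⊗ₜ[R] (1 : B)) * ((1 : A) ⊗ₜ[R] y) by
    rw [Algebra.TensorProduct.tmul_mul_tmul, mul_one, one_mul], map_mul]
  exact congrArg₂ (· * ·) congr($h1 x) congr($h2 y)

variable {k K : Type u} [Field k] [Field K] [Algebra k K] [IsGalois k K] {X X' : Scheme.{u}}
  (pX : X ⟶ Spec (CommRingCat.of k)) [IsSeparated pX] (g : X' ⟶ X) (pX' : X' ⟶ Spec (CommRingCat.of K))
  (hpb : IsPullback g pX' pX (Spec.map (CommRingCat.ofHom (algebraMap k K))))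
  {L : X.Modules} {C : Chart L}

include hpb in
/-- A datum fixed by the Galois group descends. -/
theorem exists_datum_of_fixed (d : Datum C g)
    (hfix : ∀ (σ : K ≃ₐ[k] K) (α : X' ⟶ X') (hα : α ≫ g = g),
      α ≫ pX' = pX' ≫ Spec.map (CommRingCat.ofHom (σ : K →+* K)) → d.pull α hα = d) :
    Nonempty (Datum C (𝟙 X)) := by
  classical
  letI : X.Over (Spec (CommRingCat.of k)) := ⟨pX⟩
  letI : X'.Over (Spec (CommRingCat.of K)) := ⟨pX'⟩
  haveI : IsAffineHom g := MorphismProperty.IsStableUnderBaseChange.of_isPullback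
    (P := @IsAffineHom) hpb.flip inferInstance
  let β : K →+* Γ(X', ⊤) := Coh.toGlobal pX'
  let φ : k →+* Γ(X, ⊤) := Coh.toGlobal pX
  -- coordinates on affine opens
  have key : ∀ U : X.Opens, IsAffineOpen U → Function.Injective (g.app U) ∧
      ∀ t : Γ(X', g ⁻¹ᵁ U), (∀ (σ : K ≃ₐ[k] K) (α : X' ⟶ X') (hα : α ≫ g = g),
        α ≫ pX' = pX' ≫ Spec.map (CommRingCat.ofHom (σ : K →+* K)) →
        α.appLE (g ⁻¹ᵁ U) (g ⁻¹ᵁ U) (preimage_eq hα U) t = t) → ∃ m, g.app U m = t := by
    intro U hU
    have hp := isBCPushout_of_isPullback g (A := k) (B := K) hpb hU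
    let rU : k →+* Γ(X, U) := (X.presheaf.map (homOfLE (le_top (a := U))).op).hom.comp φ
    letI : Algebra k Γ(X, U) := rU.toAlgebra
    obtain ⟨Φ, hΦ⟩ := exists_ringEquiv_of_pushout (R := k) (A := K) (B := Γ(X, U)) hp.flip
    have hone : ∀ m, Φ (1 ⊗ₜ m) = g.app U m := fun m => by rw [hΦ, map_one, one_mul]
    refine ⟨fun a b hab => ?_, fun t ht => ?_⟩
    · rw [← hone, ← hone] at hab
      have hinj : Function.Injective (fun m : Γ(X, U) => (1 : K) ⊗ₜ[k] m) :=
        Algebra.TensorProduct.includeRight_injective (A := K) (algebraMap k K).injective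
      exact hinj (Φ.injective hab)
    obtain ⟨z, rfl⟩ := Φ.surjective t
    obtain ⟨m, hm⟩ := mem_range_of_fixed z fun σ => by
      let α : X' ⟶ X' := hpb.lift g (pX' ≫ Spec.map (CommRingCat.ofHom (σ : K →+* K))) (by
        rw [hpb.w, Category.assoc, ← Spec.map_comp]
        congr 2
        ext a
        exact (σ.commutes a).symm)
      have hα : α ≫ g = g := hpb.lift_fst _ _ _
      have hα' : α ≫ pX' = pX' ≫ Spec.map (CommRingCat.ofHom (σ : K →+* K)) := hpb.lift_snd _ _ _
      refine Φ.injective ((?_ : _ = α.appLE (g ⁻¹ᵁ U) (g ⁻¹ᵁ U) (preimage_eq hα U) (Φ z)).trans (ht σ α hα hα'))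
      clear ht
      induction z using TensorProduct.induction_on with
      | zero => simp
      | add a b ha hb => rw [map_add, map_add, map_add, map_add, ha, hb]
      | tmul c m =>
        rw [Algebra.TensorProduct.map_tmul, hΦ, hΦ, map_mul]
        congr 1
        · show res (le_top : g ⁻¹ᵁ U ≤ ⊤) (β (σ c)) = α.appLE _ _ _ (res le_top (β c))
          have h1 : α.appTop (β c) = β (σ c) := by
            show α.appTop (pX'.appTop ((Scheme.ΓSpecIso (CommRingCat.of K)).inv c)) =
              pX'.appTop ((Scheme.ΓSpecIso (CommRingCat.of K)).inv (CommRingCat.ofHom (σ : K →+* K) c))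
            rw [← CommRingCat.comp_apply, ← Scheme.Hom.comp_appTop, hα', Scheme.Hom.comp_appTop,
              CommRingCat.comp_apply]
            exact congrArg _ congr($((Scheme.ΓSpecIso_inv_naturality (CommRingCat.ofHom (σ : K →+* K))).symm) c)
          rw [← h1]
          show (α.app ⊤ ≫ X'.presheaf.map _) (β c) = (X'.presheaf.map _ ≫ α.appLE _ _ _) (β c)
          rw [Scheme.Hom.map_appLE]
          rfl
        · show g.app U m = α.appLE _ _ _ (g.app U m)
          rw [← CommRingCat.comp_apply, g.app_eq_appLE, Scheme.Hom.appLE_comp_appLE]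
          simp only [hα]
    exact ⟨m, by rw [← hone, hm]⟩
  have hb : ∀ x, ∃ m : Γ(X, C.U x), g.app _ m = d.b x := fun x => (key _ (C.aff x)).2 _ fun σ α hα hα' =>
    congrArg (fun d : Datum C g => d.b x) (hfix σ α hα hα')
  choose m hm using hb
  have hu : ∀ x, IsUnit (m x) := fun x => by
    obtain ⟨m', hm'⟩ := (key _ (C.aff x)).2 (↑(d.unit x).unit⁻¹ : Γ(X', g ⁻¹ᵁ C.U x)) fun σ α hα hα' => by
      have h1 : α.appLE (g ⁻¹ᵁ C.U x) (g ⁻¹ᵁ C.U x) (preimage_eq hα _) (d.b x) = d.b x :=
        congrArg (fun d : Datum C g => d.b x) (hfix σ α hα hα')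
      refine ((d.unit x).mul_left_inj).1 ?_
      conv_lhs => arg 2; rw [← h1]
      rw [← map_mul, IsUnit.val_inv_mul, map_one]
    exact IsUnit.of_mul_eq_one m' ((key _ (C.aff x)).1 (by rw [map_mul, hm, hm', IsUnit.mul_val_inv, map_one]))
  refine ⟨⟨fun x => m x, hu, fun x y => ?_⟩⟩
  haveI : X.IsSeparated := ⟨by rw [terminal.hom_ext (terminal.from X) (pX ≫ terminal.from _)]; infer_instance⟩
  refine (key _ (IsAffineOpen.inf (C.aff x) (C.aff y))).1 ?_
  have hn : ∀ {V W : X.Opens} (hle : W ≤ V) (t : Γ(X, V)),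
      g.app W (res hle t) = res ((Opens.map g.base).map (homOfLE hle)).le (g.app V t) := fun hle t =>
    ConcreteCategory.congr_hom (g.naturality (homOfLE hle).op) t
  show g.app _ (res inf_le_left (m x)) = g.app _ (C.r x y * res inf_le_right (m y))
  rw [map_mul, hn, hn, hm, hm]
  exact d.compat x y

end Groth.Agent.Et18.PicAxes
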