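import Groth.Agent.Et18.PicAxes.AlgClosed
import Groth.Agent.Et18.PicAxes.Descent
import Groth.Agent.Et18.RosenlichtGeom
import Groth.Prelude.Def_Red

/-!
# Invertible modules on a product of groups trivial on the axes
-/

set_option autoImplicit false
set_option linter.all false
set_option backward.isDefEq.respectTransparency.types false
set_option backward.isDefEq.respectTransparency false
set_option maxHeartbeats 2000000

universe u

open CategoryTheory CategoryTheory.Limits MonoidalCategory CartesianMonoidalCategory MonObj GrpObj AlgebraicGeometry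
open Groth.Agent.PicLib Red

namespace Groth.Agent.Et18.PicAxes

variable {S S' : Scheme.{u}} (f : S' ⟶ S) (P Q : Over S)

theorem bc_axis_left [GrpObj Q] :
    lift (𝟙 (bc f P)) (toUnit (bc f P) ≫ η[bc f Q]) ≫ (Functor.Monoidal.μIso (Over.pullback f) P Q).hom =
      (Over.pullback f).map (lift (𝟙 P) (toUnit P ≫ η[Q])) := by
  rw [← Iso.eq_comp_inv]
  apply CartesianMonoidalCategory.hom_ext
  · simp [← Functor.map_comp]
  · simp [← Functor.map_comp, Functor.obj.η_def, Functor.Monoidal.toUnit_ε_assoc]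

theorem bc_axis_right [GrpObj P] :
    lift (toUnit (bc f Q) ≫ η[bc f P]) (𝟙 (bc f Q)) ≫ (Functor.Monoidal.μIso (Over.pullback f) P Q).hom =
      (Over.pullback f).map (lift (toUnit Q ≫ η[P]) (𝟙 Q)) := by
  rw [← Iso.eq_comp_inv]
  apply CartesianMonoidalCategory.hom_ext
  · simp [← Functor.map_comp, Functor.obj.η_def, Functor.Monoidal.toUnit_ε_assoc]
  · simp [← Functor.map_comp]

theorem bc_unit [GrpObj P] : η[bc f P].left ≫ pullback.fst P.hom f = f ≫ η[P].left := by
  rw [Functor.obj.η_def, Over.comp_left, Category.assoc]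
  rw [show ((Over.pullback f).map η[P]).left ≫ pullback.fst P.hom f = pullback.fst (𝟙_ (Over S)).hom f ≫ η[P].left from pullback.lift_fst _ _ _]
  have h1 := Over.w (Functor.LaxMonoidal.ε (Over.pullback f))
  have h2 : pullback.fst (𝟙_ (Over S)).hom f ≫ (𝟙_ (Over S)).hom = pullback.snd (𝟙_ (Over S)).hom f ≫ f := pullback.condition
  rw [← Category.assoc]
  congr 1
  change pullback.fst (𝟙 S) f ≫ 𝟙 S = _ at h2
  rw [Category.comp_id] at h2
  exact (congrArg (_ ≫ ·) h2).trans ((Category.assoc _ _ _).symm.trans ((congrArg (· ≫ f) h1).trans (Category.id_comp f)))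

theorem eq_one (k : Type u) [Field k] [PerfectField k]
    (P Q : Over (Spec (CommRingCat.of k))) [GrpObj P] [GrpObj Q]
    [IsAffine P.left] [Smooth P.hom] [ConnectedSpace ↥P.left]
    [Smooth Q.hom] [QuasiCompact Q.hom] [ConnectedSpace ↥Q.left]
    {L : (P ⊗ Q).left.Modules} (hL : PicF.IsInvertible L)
    (hP : PicM.pull (lift (𝟙 P) (toUnit P ≫ η[Q])).left (PicM.of hL) = 1)
    (hQ : PicM.pull (lift (toUnit Q ≫ η[P]) (𝟙 Q)).left (PicM.of hL) = 1) : PicM.of hL = 1 := by
  classical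
  let K := AlgebraicClosure k
  haveI : Algebra.IsAlgebraic k K := inferInstance
  haveI : IsGalois k K := IsGalois.mk
  let φ : Spec (CommRingCat.of K) ⟶ Spec (CommRingCat.of k) := Spec.map (CommRingCat.ofHom (algebraMap k K))
  haveI : IsSeparated Q.hom := SGA3xLib.isSeparated_of_grpObj Q
  haveI : IsSeparated P.hom := inferInstance
  haveI : GeometricallyConnected P.hom := geometricallyConnected_of_group P
  haveI : GeometricallyConnected Q.hom := geometricallyConnected_of_group Q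
  let P' := bc φ P
  let Q' := bc φ Q
  haveI : IsAffine P'.left := inferInstanceAs (IsAffine (pullback P.hom φ))
  haveI : Smooth P'.hom := inferInstanceAs (Smooth (pullback.snd P.hom φ))
  haveI : Smooth Q'.hom := inferInstanceAs (Smooth (pullback.snd Q.hom φ))
  haveI : QuasiCompact Q'.hom := inferInstanceAs (QuasiCompact (pullback.snd Q.hom φ))
  haveI : QuasiCompact P'.hom := inferInstanceAs (QuasiCompact (pullback.snd P.hom φ))
  haveI : ConnectedSpace ↥P'.left :=
    GeometricallyConnected.geometrically_connectedSpace _ _ _ (IsPullback.of_hasPullback P.hom φ)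
  haveI : ConnectedSpace ↥Q'.left :=
    GeometricallyConnected.geometrically_connectedSpace _ _ _ (IsPullback.of_hasPullback Q.hom φ)
  let X := P ⊗ Q
  let X' := P' ⊗ Q'
  let pX : X.left ⟶ Spec (CommRingCat.of k) := X.hom
  haveI : IsSeparated pX := by
    show IsSeparated (pullback.fst P.hom Q.hom ≫ P.hom)
    infer_instance
  let iμ := (Over.forget _).mapIso (Functor.Monoidal.μIso (Over.pullback φ) P Q)
  let g : X'.left ⟶ X.left := iμ.hom ≫ pullback.fst X.hom φ
  have hμ : iμ.hom ≫ pullback.snd X.hom φ = X'.hom := Over.w (Functor.Monoidal.μIso (Over.pullback φ) P Q).hom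
  have hw : g ≫ pX = X'.hom ≫ φ := by
    show (iμ.hom ≫ pullback.fst X.hom φ) ≫ X.hom = _
    rw [Category.assoc, pullback.condition, ← Category.assoc, hμ]
  have hpb : IsPullback g X'.hom pX φ := IsPullback.of_iso_pullback ⟨hw⟩ iμ rfl hμ
  let aP := (lift (𝟙 P) (toUnit P ≫ η[Q])).left
  let aQ := (lift (toUnit Q ≫ η[P]) (𝟙 Q)).left
  let aP' : P'.left ⟶ X'.left := (lift (𝟙 P') (toUnit P' ≫ η[Q'])).left
  let aQ' : Q'.left ⟶ X'.left := (lift (toUnit Q' ≫ η[P']) (𝟙 Q')).left
  let gP : P'.left ⟶ P.left := pullback.fst P.hom φ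
  let gQ : Q'.left ⟶ Q.left := pullback.fst Q.hom φ
  have haP : aP' ≫ g = gP ≫ aP := by
    have h := congrArg CommaMorphism.left (bc_axis_left φ P Q)
    show (lift (𝟙 P') (toUnit P' ≫ η[Q'])).left ≫ iμ.hom ≫ _ = _
    rw [← Category.assoc]
    exact (congrArg (· ≫ pullback.fst X.hom φ) h).trans (pullback.lift_fst _ _ _)
  have haQ : aQ' ≫ g = gQ ≫ aQ := by
    have h := congrArg CommaMorphism.left (bc_axis_right φ P Q)
    show (lift (toUnit Q' ≫ η[P']) (𝟙 Q')).left ≫ iμ.hom ≫ _ = _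
    rw [← Category.assoc]
    exact (congrArg (· ≫ pullback.fst X.hom φ) h).trans (pullback.lift_fst _ _ _)
  have haP's : aP' ≫ X'.hom = P'.hom := Over.w _
  have haQ's : aQ' ≫ X'.hom = Q'.hom := Over.w _
  -- rational points
  let eP : Spec (CommRingCat.of k) ⟶ P.left := η[P].left
  let eQ : Spec (CommRingCat.of k) ⟶ Q.left := η[Q].left
  let eP' : Spec (CommRingCat.of K) ⟶ P'.left := η[P'].left
  let eQ' : Spec (CommRingCat.of K) ⟶ Q'.left := η[Q'].left
  have heQs : eQ ≫ Q.hom = 𝟙 _ := Over.w η[Q]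
  have hePs' : eP' ≫ P'.hom = 𝟙 _ := Over.w η[P']
  have heQs' : eQ' ≫ Q'.hom = 𝟙 _ := Over.w η[Q']
  have ho : eP ≫ aP = eQ ≫ aQ := by
    show (η[P] ≫ lift (𝟙 P) (toUnit P ≫ η[Q])).left = (η[Q] ≫ lift (toUnit Q ≫ η[P]) (𝟙 Q)).left
    simp [comp_lift]
  have ho' : eP' ≫ aP' = eQ' ≫ aQ' := by
    show (η[P'] ≫ lift (𝟙 P') (toUnit P' ≫ η[Q'])).left = (η[Q'] ≫ lift (toUnit Q' ≫ η[P']) (𝟙 Q')).left
    simp [comp_lift]
  -- data
  obtain ⟨C⟩ := nonempty_chart hL
  obtain ⟨dP⟩ := exists_datum C hL aP hP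
  obtain ⟨dQ₀⟩ := exists_datum C hL aQ hQ
  obtain ⟨t, ht, hteq⟩ := (dQ₀.pull eQ ho.symm).exists_smul (dP.pull eP (rfl : eP ≫ aP = eP ≫ aP))
  let dQ := dQ₀.smul (Q.hom.appTop t) (ht.map _)
  have hdPQ : dQ.pull eQ ho.symm = dP.pull eP rfl := by
    rw [hteq, Datum.smul_pull]
    congr 1
    rw [← CommRingCat.comp_apply, ← Scheme.Hom.comp_appTop, heQs, Scheme.Hom.id_appTop]
    rfl
  have htriv : PicM.pull g (PicM.of hL) = 1 := by
    refine eq_one_of_axes P' Q' _ ?_ ?_
    · rw [PicM.pull_pull]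
      show PicM.pull (aP' ≫ g) _ = 1
      rw [haP, ← PicM.pull_pull, hP, map_one]
    · rw [PicM.pull_pull]
      show PicM.pull (aQ' ≫ g) _ = 1
      rw [haQ, ← PicM.pull_pull, hQ, map_one]
  obtain ⟨dK⟩ := exists_datum C hL g htriv
  let hP' := aP' ≫ g
  let hQ' := aQ' ≫ g
  let dP' : Datum C hP' := dP.pull gP haP.symm
  let dQ' : Datum C hQ' := dQ.pull gQ haQ.symm
  obtain ⟨vP, hvP, hvPeq⟩ := (dK.pull aP' (rfl : aP' ≫ g = hP')).exists_smul dP'
  obtain ⟨vQ, hvQ, hvQeq⟩ := (dK.pull aQ' (rfl : aQ' ≫ g = hQ')).exists_smul dQ'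
  have hoo : eQ' ≫ hQ' = eP' ≫ hP' :=
    (Category.assoc _ _ _).symm.trans ((congrArg (· ≫ g) ho'.symm).trans (Category.assoc _ _ _))
  have hP0 : (φ ≫ eP) ≫ aP = eP' ≫ hP' := by
    rw [← show eP' ≫ gP = φ ≫ eP from bc_unit φ P, Category.assoc, ← haP]
  have hQ0 : (φ ≫ eQ) ≫ aQ = eP' ≫ hP' := by
    rw [← show eQ' ≫ gQ = φ ≫ eQ from bc_unit φ Q, Category.assoc, ← haQ]
    exact hoo
  have hve : eP'.appTop vP = eQ'.appTop vQ := by
    have h1 : dP'.pull eP' rfl = dQ'.pull eQ' hoo := by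
      rw [Datum.pull_pull, Datum.pull_pull,
        dP.pull_congr (bc_unit φ P) _ hP0,
        dQ.pull_congr (bc_unit φ Q) _ hQ0,
        ← dP.pull_pull eP rfl φ (h'' := eP' ≫ hP') (by rw [← Category.assoc]; exact hP0),
        ← dQ.pull_pull eQ ho.symm φ (h'' := eP' ≫ hP') (by rw [← Category.assoc]; exact hP0), hdPQ]
    rw [hvPeq, hvQeq, Datum.smul_pull, Datum.smul_pull, Datum.pull_pull, Datum.pull_pull,
      dK.pull_congr ho' _ (by rw [← ho', Category.assoc])] at h1
    exact Datum.smul_cancel _ _ _ h1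
  let z := eP'.appTop vP
  have hz : IsUnit z := hvP.map _
  let w : Γ(X'.left, ⊤) := (fst P' Q').left.appTop vP * (snd P' Q').left.appTop vQ *
    X'.hom.appTop (↑hz.unit⁻¹ : Γ(Spec (CommRingCat.of K), ⊤))
  have hwu : IsUnit w := ((hvP.map _).mul (hvQ.map _)).mul ((Units.isUnit _).map _)
  have hcomp : ∀ {T : Over (Spec (CommRingCat.of K))} (a : T ⟶ X'), a.left.appTop w =
      (a ≫ fst P' Q').left.appTop vP * (a ≫ snd P' Q').left.appTop vQ * T.hom.appTop (↑hz.unit⁻¹ : _) := by
    intro T a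
    have e1 : ∀ {R : Over (Spec (CommRingCat.of K))} (b : X' ⟶ R) (v : Γ(R.left, ⊤)),
        a.left.appTop (b.left.appTop v) = (a ≫ b).left.appTop v := fun b v => by
      rw [Over.comp_left, Scheme.Hom.comp_appTop]; rfl
    have e2 : ∀ v, a.left.appTop (X'.hom.appTop v) = T.hom.appTop v := fun v => by
      rw [← Over.w a, Scheme.Hom.comp_appTop]; rfl
    simp only [w, map_mul]
    rw [e1, e1, e2]
  have hwP : aP'.appTop w = vP := by
    rw [show aP' = (lift (𝟙 P') (toUnit P' ≫ η[Q'])).left from rfl, hcomp, lift_fst, lift_snd, Over.id_left,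
      Scheme.Hom.id_appTop, Over.comp_left, Scheme.Hom.comp_appTop, CommRingCat.comp_apply]
    show vP * P'.hom.appTop (eQ'.appTop vQ) * P'.hom.appTop _ = vP
    rw [← hve, _root_.mul_assoc, ← map_mul, hz.mul_val_inv, map_one, _root_.mul_one]
  have hwQ : aQ'.appTop w = vQ := by
    rw [show aQ' = (lift (toUnit Q' ≫ η[P']) (𝟙 Q')).left from rfl, hcomp, lift_fst, lift_snd, Over.id_left,
      Scheme.Hom.id_appTop, Over.comp_left, Scheme.Hom.comp_appTop, CommRingCat.comp_apply]
    show Q'.hom.appTop (eP'.appTop vP) * vQ * Q'.hom.appTop _ = vQ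
    rw [mul_right_comm, ← map_mul, hz.mul_val_inv, map_one, _root_.one_mul]
  let dK' := dK.smul w hwu
  have hdP : dK'.pull aP' (rfl : aP' ≫ g = hP') = dP' := by
    rw [hvPeq, Datum.smul_pull]
    congr 1
  have hdQ : dK'.pull aQ' (rfl : aQ' ≫ g = hQ') = dQ' := by
    rw [hvQeq, Datum.smul_pull]
    congr 1
  haveI : IsReduced X'.left := by
    haveI : Smooth X'.hom := by
      show Smooth (pullback.fst P'.hom Q'.hom ≫ P'.hom)
      infer_instance
    exact WeilLib.isReduced_of_smooth X'.hom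
  obtain ⟨d₀⟩ := exists_datum_of_fixed pX g X'.hom hpb dK' fun σ α hα hα' => by
    obtain ⟨u, hu, hueq⟩ := dK'.exists_smul (dK'.pull α hα)
    suffices hu1 : u = 1 by subst hu1; rw [hueq, Datum.smul_one]
    have axis : ∀ (T : Over (Spec (CommRingCat.of k))) (a : (bc φ T).left ⟶ X'.left) (b : T.left ⟶ X.left)
        (hab : a ≫ g = pullback.fst T.hom φ ≫ b) (has : a ≫ X'.hom = (bc φ T).hom) (dT : Datum C b),
        dK'.pull a rfl = dT.pull (pullback.fst T.hom φ) hab.symm → a.appTop u = 1 := by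
      intro T a b hab has dT hd
      let αT : pullback T.hom φ ⟶ pullback T.hom φ := pullback.lift (pullback.fst T.hom φ)
        (pullback.snd T.hom φ ≫ Spec.map (CommRingCat.ofHom (σ : K →+* K))) (by
          rw [pullback.condition, Category.assoc, ← Spec.map_comp]
          refine congrArg (pullback.snd T.hom φ ≫ ·) (congrArg Spec.map ?_)
          exact CommRingCat.hom_ext (RingHom.ext fun c => (σ.commutes c).symm))
      have hαT : αT ≫ pullback.fst T.hom φ = pullback.fst T.hom φ := pullback.lift_fst _ _ _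
      have h4 : αT ≫ a ≫ g = a ≫ g := by rw [hab, ← Category.assoc, hαT]
      have h2 : a ≫ α = αT ≫ a := by
        apply hpb.hom_ext
        · rw [Category.assoc, hα, Category.assoc, h4]
        · rw [Category.assoc, hα', ← Category.assoc, has, Category.assoc, has]
          exact (pullback.lift_snd _ _ _).symm
      have h3 : (dK'.pull α hα).pull a rfl = dK'.pull a rfl := by
        rw [Datum.pull_pull, dK'.pull_congr h2 _ (by rw [Category.assoc]; exact h4),
          ← dK'.pull_pull a rfl αT h4, hd, Datum.pull_pull,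
          dT.pull_congr hαT _ hab.symm]
      rw [hueq, Datum.smul_pull] at h3
      refine Datum.smul_cancel (dK'.pull a rfl) (hu.map _) isUnit_one ?_
      rw [h3, Datum.smul_one]
    haveI : IsReduced (pullback P'.hom Q'.hom) := ‹IsReduced X'.left›
    refine Rosenlicht.eq_one_of_axes (IsPullback.of_hasPullback P'.hom Q'.hom) ⟨eP', hePs'⟩ ⟨eQ', heQs'⟩ hu ?_ ?_
    · rw [← axis P aP' aP haP haP's dP hdP]
      congr 3
      apply pullback.hom_ext
      · simp only [IsPullback.lift_fst]; exact (congrArg CommaMorphism.left (lift_fst (𝟙 P') (toUnit P' ≫ η[Q']))).symm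
      · simp only [IsPullback.lift_snd]; exact (congrArg CommaMorphism.left (lift_snd (𝟙 P') (toUnit P' ≫ η[Q']))).symm
    · rw [← axis Q aQ' aQ haQ haQ's dQ hdQ]
      congr 3
      apply pullback.hom_ext
      · simp only [IsPullback.lift_fst]; exact (congrArg CommaMorphism.left (lift_fst (toUnit Q' ≫ η[P']) (𝟙 Q'))).symm
      · simp only [IsPullback.lift_snd]; exact (congrArg CommaMorphism.left (lift_snd (toUnit Q' ≫ η[P']) (𝟙 Q'))).symm
  exact eq_one_of_datum hL d₀

end Groth.Agent.Et18.PicAxes
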